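import Cfsg.Agent.DZ3.Cl.Rows
import Cfsg.Agent.DZ3.Cyc

/-!
# S4527: the symplectic and orthogonal rows (helper12)

`Row2.row` : it is enough to treat the primes whose square divides the order; `psp`, `oodd`, `oplus`, `ominus`.
-/

set_option autoImplicit false

open Cfsg

namespace Cfsg.Agent.DZ3

open Cfsg.Agent.R2.DZ

universe u

/-- it is enough to treat the primes whose square divides the order -/
theorem Row2.row {P : ∀ (G : Type u) [Group G], Prop} (h : Row2 P) : Row P := by
  intro G _ _ _ hna hP p hp h5
  by_cases hsq : p ^ 2 ∣ Nat.card G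
  · exact h G hna hP p hp h5 hsq
  · exact DZ3.of_not_sq_dvd hp hna hsq

theorem psp : Row.{u} @IsPSp := psp2.row

theorem oodd : Row.{u} @IsPOmegaOdd := oodd2.row

theorem oplus : Row.{u} @IsPOmegaPlus := oplus2.row

theorem ominus : Row.{u} @IsPOmegaMinus := ominus2.row

end Cfsg.Agent.DZ3
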