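import Cfsg.Agent.R2.DZ.T2.Main
import Cfsg.Agent.R2.DZ.T3.EightB
import Cfsg.Agent.H686.VO.SpFour
import Cfsg.Agent.S2545
import Cfsg.Agent.S2547
import Cfsg.Agent.S2548
import Cfsg.Agent.S2549

/-!
# S4527: the symplectic and orthogonal rows, for `p ^ 2` dividing the order (helper12)

`Row2 P` : the row of `P` for primes `p ≥ 5` with `p ^ 2 ∣ |G|`; `psp2`, `oodd2`, `oplus2`, `ominus2`.
-/

set_option autoImplicit false

open Cfsg

namespace Cfsg.Agent.DZ3

open Cfsg.Agent.H665.NoPQ Cfsg.Agent.R2.DZ Cfsg.Agent.R2.DZ.T2 Cfsg.Agent.R2.DZ.T3 Cfsg.Agent.H477.HC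
  Cfsg.Agent.H749.Two

universe u

/-- the row of the property `P`, for the primes whose square divides the order -/
def Row2 (P : ∀ (G : Type u) [Group G], Prop) : Prop :=
  ∀ (G : Type u) [Group G] [Finite G] [IsSimpleGroup G], ¬ IsMulCommutative G → P G → ∀ p : ℕ, p.Prime → 5 ≤ p →
    p ^ 2 ∣ Nat.card G → HasDZ p G

/-- the characteristic of a finite field whose order is prime to `p` -/
theorem exists_char_ne (K : Type) [Field K] [Fintype K] {p : ℕ} (h : ¬ p ∣ Fintype.card K) :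
    ∃ r : ℕ, r.Prime ∧ CharP K r ∧ p ≠ r := by
  obtain ⟨r, hr⟩ := CharP.exists K
  obtain ⟨f, hrp, hf⟩ := FiniteField.card K r
  refine ⟨r, hrp, hr, fun h0 => h ?_⟩
  rw [hf, h0]
  exact dvd_pow_self r f.ne_zero

/-- **`PSp_2m(q)`** -/
theorem psp2 : Row2.{u} @IsPSp := by
  rintro G _ _ _ - ⟨F, _, _, m, hm, hm2, ⟨e⟩⟩ p hp h5 hsq
  have := Fact.mk hp
  have hfin : Finite (PSp m F) := inferInstance
  rw [Nat.card_congr e.toEquiv] at hsq
  refine R2.DZ.congr e.symm ?_
  by_cases hpq : p ∣ Fintype.card F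
  · have := charP_of_dvd hp hpq
    obtain ⟨χ, h1, h2⟩ := S2545.result (F := F) p m (by omega)
    exact of_steinberg h1 fun P => (h2 P).1
  obtain ⟨r, hr, hc, hpr⟩ := exists_char_ne F hpq
  have := Fact.mk hr
  have hq : Nat.card F = Fintype.card F := Nat.card_eq_fintype_card
  by_cases h1 : p ∣ Nat.card F - 1
  · exact hasDZ_sp hp (dzf_sp_q F hp h5 h1 hm)
  have hN := H686.VO.pow_dvd_prod F (r := r) hp hpr hsq
  rcases Nat.lt_or_ge m 3 with h3 | h3
  · obtain rfl : m = 2 := by omega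
    by_cases h2 : p ∣ Nat.card F + 1
    · exact H686.VO.hasDZ_four (by omega) (by rwa [← hq])
    · refine H686.VO.hasDZ_psp F (r := r) le_rfl hpr (fun h => h2 (dvd_sq_sub hp h1 h)) (fun _ => ?_)
        (fun h => by omega) (fun h => by omega)
      by_contra h4
      have h6 : Nat.card F = 3 := by
        have := hm2 rfl
        omega
      rw [h6] at hN
      have h7 : p ^ 2 ∣ 2 ^ 7 * 5 := by
        simpa [Finset.prod_range_succ] using hN
      have h8 : p ∣ 2 ^ 7 * 5 := (dvd_pow_self p two_ne_zero).trans h7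
      rcases hp.dvd_mul.1 h8 with h9 | h9
      · have := (Nat.prime_dvd_prime_iff_eq hp Nat.prime_two).1 (hp.dvd_of_dvd_pow h9)
        omega
      · rw [(Nat.prime_dvd_prime_iff_eq hp Nat.prime_five).1 h9] at h7
        norm_num at h7
  · refine hasDZ_sp hp (dzf_sp F (r := r) hp h5 hpr h1 h3 ?_ ?_)
    · rintro rfl h6 rfl
      rw [h6] at hN
      norm_num [Finset.prod_range_succ] at hN
    · rintro rfl h6 rfl
      rw [h6] at hN
      norm_num [Finset.prod_range_succ] at hN

/-- **`PΩ_{2m+1}(q)`** -/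
theorem oodd2 : Row2.{u} @IsPOmegaOdd := by
  rintro G _ _ _ - ⟨F, _, _, m, hm, ho, ⟨e⟩⟩ p hp h5 -
  have := Fact.mk hp
  have hfin : Finite (POmega F (quadFormOdd m F)) := inferInstance
  refine R2.DZ.congr e.symm ?_
  by_cases hpq : p ∣ Fintype.card F
  · have := charP_of_dvd hp hpq
    obtain ⟨χ, h1, h2⟩ := S2547.result (F := F) p ho m (by omega)
    exact of_steinberg h1 fun P => (h2 P).1
  obtain ⟨r, hr, hc, hpr⟩ := exists_char_ne F hpq
  have := Fact.mk hr
  have hq : Nat.card F = Fintype.card F := Nat.card_eq_fintype_card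
  rw [← hq] at ho
  have h2 : (2 : F) ≠ 0 := two_ne_zero_of_odd (K := F) (p := r) ho
  obtain ⟨hidx, hcen⟩ := odd_idx F (p := r) ho hm
  have hd : DZF p (fun a => a = 1) (CForm.oddF F m h2) := by
    by_cases h1 : p ∣ Nat.card F - 1
    · exact (dzf_odd_q F h2 hp h5 h1 (by omega)).mono fun a ha => by rw [ha, one_pow]
    · exact dzf_odd F (r := r) hp h5 hpr h1 h2 ho hm
  exact hasDZ_om (CForm.oddF F m h2) (odd_hB F m h2) hp (by omega) hd (fun z hz => ⟨1, rfl, fun v => by
    rw [hcen z hz]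
    change (1 : Matrix _ _ F).mulVec v = _
    rw [Matrix.one_mulVec, Units.val_one, one_smul]⟩) (t := 2) (by
      change (Omega F (quadFormOdd m F)).index ∣ 2 ^ 2
      rw [hidx]; norm_num)

/-- **`PΩ⁺_2m(q)`** -/
theorem oplus2 : Row2.{u} @IsPOmegaPlus := by
  rintro G _ _ _ - ⟨F, _, _, m, hm, ⟨e⟩⟩ p hp h5 -
  have := Fact.mk hp
  have hfin : Finite (POmega F (quadFormPlus m F)) := inferInstance
  refine R2.DZ.congr e.symm ?_
  by_cases hpq : p ∣ Fintype.card F
  · have := charP_of_dvd hp hpq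
    obtain ⟨χ, h1, h2⟩ := S2548.result (F := F) p m (by omega)
    exact of_steinberg h1 fun P => (h2 P).1
  obtain ⟨r, hr, hc, hpr⟩ := exists_char_ne F hpq
  have := Fact.mk hr
  have hd : DZF p (fun a => a ^ 2 = 1) (CForm.plusF F m) := by
    by_cases h1 : p ∣ Nat.card F - 1
    · exact dzf_plus_q F hp h5 h1 (by omega)
    · exact dzf_plus F (r := r) hp h5 hpr h1 hm
  exact hasDZ_om (CForm.plusF F m) (plus_hB F m) hp (by omega) hd
    (fun z hz => scal_of (cen_plus F (by omega) z hz)) (t := 3) (plus_idx F hm)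

/-- **`PΩ⁻_2m(q)`** -/
theorem ominus2 : Row2.{u} @IsPOmegaMinus := by
  rintro G _ _ _ - ⟨F, _, _, m, a, b, hm, hab, ⟨e₀⟩⟩ p hp h5 hsq
  have := Fact.mk hp
  obtain ⟨l, rfl⟩ : ∃ l, m = l + 1 := ⟨m - 1, by omega⟩
  have e : G ≃* POmega F (quadFormMinus l F a b) := e₀
  have hl3 : 3 ≤ l := by omega
  have hfin : Finite (POmega F (quadFormMinus l F a b)) := inferInstance
  rw [Nat.card_congr e.toEquiv] at hsq
  refine R2.DZ.congr e.symm ?_
  by_cases hpq : p ∣ Fintype.card F
  · have := charP_of_dvd hp hpq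
    obtain ⟨χ, h1, h2⟩ := S2549.result (F := F) p l a b hab
    exact of_steinberg h1 fun P => (h2 P).1
  obtain ⟨r, hr, hc, hpr⟩ := exists_char_ne F hpq
  have := Fact.mk hr
  have key : DZF p (fun c => c ^ 2 = 1) (CForm.minusF F l a b hab) → HasDZ p (POmega F (quadFormMinus l F a b)) :=
    fun hd => hasDZ_om (CForm.minusF F l a b hab) (minus_hB F l a b hab) hp (by omega) hd
      (fun z hz => scal_of (cen_minus F (by omega) a b hab z hz)) (t := 3) (minus_idx F a b hab hl3)
  by_cases h1 : p ∣ Nat.card F - 1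
  · exact key (dzf_minus_q F hab hp h5 h1 (by omega))
  rcases Nat.lt_or_ge l 4 with h4 | h4
  · obtain rfl : l = 3 := by omega
    by_cases h2 : p ∣ Nat.card F + 1
    · exact key (Eight.dzf_minus_eight F hab hp h5 h2)
    · refine hasDZ_om (CForm.minusF F 3 a b hab) (minus_hB F 3 a b hab) hp (by omega)
        (dzf_minus_three F (r := r) a b hab hp h5 hpr h1 h2 ?_) (fun z hz => ⟨1, rfl, fun v => by
          have h3 : omMat z = 1 := minus_cen F (p := r) a b hab z hz
          rw [show omMat z = 1 from h3]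
          rw [Matrix.one_mulVec, Units.val_one, one_smul]⟩) (t := 3) (minus_idx F a b hab hl3)
      rintro h6 rfl
      have h7 : 7 ^ 2 ∣ Nat.card (CForm.minusF F 3 a b hab).iso := by
        rw [← Nat.card_congr (isoQuad (CForm.minusF F 3 a b hab) (minus_hB F 3 a b hab)).toEquiv]
        exact hsq.trans ((Subgroup.card_quotient_dvd_card _).trans (Subgroup.card_subgroup_dvd_card _))
      rw [card_minusF, h6] at h7
      norm_num [Finset.prod_range_succ] at h7
  · exact key (dzf_minus F (r := r) a b hab hp h5 hpr h1 h4)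

end Cfsg.Agent.DZ3
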